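import Groth.Agent.RelCurve.Sum
import Groth.Agent.ModPairLib.Quot
import Groth.Agent.S1172
import Groth.Prelude.Def_W4c6dblnestedhilbptsFlags

universe u

open CategoryTheory AlgebraicGeometry

namespace Groth.Agent.DnFlag

variable {X S : Scheme.{u}} (f : X ⟶ S) [SmoothOfRelativeDimension 1 f]

/-- Existence of the difference of two nested relative divisors. -/
theorem exists_diff {I₁ I₂ : X.IdealSheafData} (hle : I₂ ≤ I₁) {d₁ d₂ : ℕ}
    (h₁ : HilbD.IsDivOfDeg f d₁ I₁) (h₂ : HilbD.IsDivOfDeg f d₂ I₂) :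
    ∃ I : X.IdealSheafData, HilbD.IsDivOfDeg f (d₂ - d₁) I ∧ I₂ = I₁ * I :=
  Groth.Agent.S1172.result f I₁ I₂ hle d₁ d₂ h₁ h₂

/-- Cancellation of a relative divisor. -/
theorem cancel {E Q Q' : X.IdealSheafData} {d : ℕ} (hE : HilbD.IsDivOfDeg f d E) (h : E * Q = E * Q') :
    Q = Q' :=
  ModPairLib.eq_of_mul_eq_mul (RelCurve.cartier_of_finLocFree f hE.1) (by rw [mul_comm Q, mul_comm Q']; exact h)

omit [SmoothOfRelativeDimension 1 f] in
theorem eq_top_of_deg_zero {I : X.IdealSheafData} (h : HilbD.IsDivOfDeg f 0 I) : I = ⊤ := by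
  obtain ⟨⟨_, _, _⟩, h0⟩ := h
  have hempty : IsEmpty I.subscheme := ⟨fun x => by
    have := Scheme.Hom.one_le_finrank_map (I.subschemeι ≫ f) x
    have := h0 ((I.subschemeι ≫ f) x)
    omega⟩
  rw [← Scheme.IdealSheafData.support_eq_bot_iff]
  ext x
  simp only [TopologicalSpace.Closeds.coe_bot, Set.mem_empty_iff_false, iff_false]
  intro hx
  rw [← Scheme.IdealSheafData.range_subschemeι] at hx
  obtain ⟨y, -⟩ := hx
  exact hempty.false y

/-- Nested relative divisors of the same degree are equal. -/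
theorem eq_of_le {I J : X.IdealSheafData} (hle : I ≤ J) {d : ℕ} (hI : HilbD.IsDivOfDeg f d I)
    (hJ : HilbD.IsDivOfDeg f d J) : I = J := by
  obtain ⟨K, hK, hIK⟩ := exists_diff f hle hJ hI
  rw [Nat.sub_self] at hK
  rw [hIK, eq_top_of_deg_zero f hK, mul_comm, ← Scheme.IdealSheafData.one_eq_top, one_mul]

theorem add {I J : X.IdealSheafData} {a b c : ℕ} (hI : HilbD.IsDivOfDeg f a I)
    (hJ : HilbD.IsDivOfDeg f b J) (hc : a + b = c) : HilbD.IsDivOfDeg f c (I * J) :=
  hc ▸ RelCurve.add f hI hJ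

end Groth.Agent.DnFlag
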